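import Groth.Agent.SurfRR.Basic
import Groth.Agent.Nakai.ClMul
import Groth.Agent.StabK3.Euler
import Groth.Agent.S14401
import Groth.Agent.P1Split.Dim
import Groth.Agent.QDescent.Adjoint
import Groth.Agent.ExtFund.CanonOpen
import Groth.Agent.ExtFund.CanonDet
import Groth.Agent.DetDeg.Atlas
import Groth.Agent.S0927
import Groth.Agent.S10831
import Groth.Agent.ExtFund.SmoothPn
import Groth.Agent.LocFree.Summand

/-!
# Riemann–Roch on smooth proper surfaces which need not be connected
-/

set_option autoImplicit false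
set_option backward.isDefEq.respectTransparency false
set_option backward.isDefEq.respectTransparency.types false
set_option linter.style.haveILetI false
set_option linter.unusedSectionVars false
set_option maxHeartbeats 800000

universe u

open CategoryTheory CategoryTheory.Limits AlgebraicGeometry TopologicalSpace Opposite
open Groth.Agent.QC (res app_res)

noncomputable section

namespace Groth.Agent.SurfRR

attribute [local instance] Abelian.hasFiniteBiproducts

variable {X : Scheme.{u}}

/-- The functions are the product of those of a finite disjoint cover by opens. -/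
theorem nonempty_structure_iso {b : ℕ} (U : Fin b → X.Opens) (hdis : ∀ i j, i ≠ j → Disjoint (U i) (U j))
    (hcov : ∀ x : X, ∃ i, x ∈ U i) :
    Nonempty (Coh.structureModule X ≅
      ∐ fun i => (Scheme.Modules.pushforward (U i).ι).obj (Coh.structureModule (U i : Scheme.{u}))) := by
  classical
  let Q := fun i => (Scheme.Modules.pushforward (U i).ι).obj (Coh.structureModule (U i : Scheme.{u}))
  let φ : Coh.structureModule X ⟶ ⨁ Q := biproduct.lift fun i => ClSub.unitToPush (U i).ι
  suffices IsIso φ from ⟨asIso φ ≪≫ biproduct.isoCoproduct Q⟩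
  refine QDescent.isIso_of_bijective_basis φ {W | ∃ i, W ≤ U i}
    (fun {V} x hx => let ⟨i, hi⟩ := hcov x; ⟨V ⊓ U i, ⟨i, inf_le_right⟩, ⟨hx, hi⟩, inf_le_left⟩) ?_
  rintro W ⟨i, hW⟩
  have hcomp : ∀ (j : Fin b) (t : Γ(Coh.structureModule X, W)),
      (biproduct.π Q j).app W (φ.app W t) = (ClSub.unitToPush (U j).ι).app W t := fun j t => by
    rw [← ConcreteCategory.comp_apply, ← Scheme.Modules.Hom.comp_app, biproduct.lift_π]
  have hz : ∀ j, j ≠ i → ∀ a b : Γ(Q j, W), a = b := fun j hj => by
    have he : (U j).ι ⁻¹ᵁ W = ⊥ := by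
      rw [eq_bot_iff]
      intro z hz
      exact ((hdis j i hj).le_bot ⟨(U j).ι_preimage_self.ge (Opens.mem_top z) , hW hz⟩ : _)
    show ∀ a b : Γ((U j : Scheme.{u}), (U j).ι ⁻¹ᵁ W), a = b
    rw [he]
    exact fun a b => Subsingleton.elim a b
  have hsum : ∀ s : Γ(⨁ Q, W), s = (biproduct.ι Q i).app W ((biproduct.π Q i).app W s) := fun s => by
    have h := congrArg (fun f : (⨁ Q) ⟶ ⨁ Q => f.app W s) (biproduct.total (f := Q))
    simp only [Scheme.Modules.Hom.id_app, ConcreteCategory.id_apply] at h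
    refine h.symm.trans ?_
    refine (LocFree.sum_app Finset.univ (fun j => biproduct.π Q j ≫ biproduct.ι Q j) W s).trans ?_
    refine (Finset.sum_eq_single i (fun j _ hj => ?_) (fun h => absurd (Finset.mem_univ i) h)).trans rfl
    show (biproduct.ι Q j).app W ((biproduct.π Q j).app W s) = 0
    rw [hz j hj ((biproduct.π Q j).app W s) 0, map_zero]
  have hbij : Function.Bijective ((ClSub.unitToPush (U i).ι).app W) := by
    haveI : IsIso ((U i).ι.app W) := Scheme.Hom.isIso_app _ _ (by rw [Scheme.Opens.opensRange_ι]; exact hW)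
    exact ConcreteCategory.bijective_of_isIso ((U i).ι.app W)
  refine ⟨fun a b hab => hbij.1 ?_, fun s => ?_⟩
  · rw [← hcomp i a, ← hcomp i b, hab]
  · obtain ⟨t, ht⟩ := hbij.2 ((biproduct.π Q i).app W s)
    refine ⟨t, ?_⟩
    rw [hsum (φ.app W t), hsum s, hcomp i t, ht]

variable (k : Type u) [Field k] [X.Over (Spec (CommRingCat.of k))] [IsProper (X ↘ Spec (CommRingCat.of k))]

/-- Euler characteristics split along a finite disjoint cover by opens. -/
theorem euler_split {b : ℕ} (U : Fin b → X.Opens) [∀ i, IsClosedImmersion (U i).ι]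
    (hdis : ∀ i j, i ≠ j → Disjoint (U i) (U j))
    (hcov : ∀ x : X, ∃ i, x ∈ U i) {A : X.Modules} (hA : PicF.IsInvertible A) :
    Curv2.euler k X A = ∑ i, (letI : (U i : Scheme.{u}).Over (Spec (CommRingCat.of k)) :=
        ⟨(U i).ι ≫ (X ↘ Spec (CommRingCat.of k))⟩
      Curv2.euler k (U i : Scheme.{u}) ((Scheme.Modules.pullback (U i).ι).obj A)) := by
  classical
  haveI := CurveRR.isNoetherian_of_proper k X
  obtain ⟨e⟩ := nonempty_structure_iso U hdis hcov
  let Q := fun i => (Scheme.Modules.pushforward (U i).ι).obj (Coh.structureModule (U i : Scheme.{u}))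
  have hl := ResDesc.isFinLocFree_of_isInvertible hA
  have eA : CohB1.tensorMod (∐ Q) A ≅ A := PicGrp.tensorModIso e.symm (Iso.refl A) ≪≫ TMul.leftUnitIso A
  have eQ : ∀ i, CohB1.tensorMod (Q i) A ≅
      (Scheme.Modules.pushforward (U i).ι).obj ((Scheme.Modules.pullback (U i).ι).obj A) := fun i =>
    TMul.commIso _ _ ≪≫ (S0927.projIso (U i).ι A hl).app (Coh.structureModule _) ≪≫
      (Scheme.Modules.pushforward (U i).ι).mapIso (SecTwist.unitorR ((Scheme.Modules.pullback (U i).ι).obj A))
  have hc : ∀ i, Coh.IsCoh (CohB1.tensorMod (Q i) A) := fun i => by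
    haveI : IsNoetherian (U i : Scheme.{u}) := by
      letI : (U i : Scheme.{u}).Over (Spec (CommRingCat.of k)) := ⟨(U i).ι ≫ (X ↘ Spec (CommRingCat.of k))⟩
      haveI : IsProper ((U i : Scheme.{u}) ↘ Spec (CommRingCat.of k)) :=
        inferInstanceAs (IsProper ((U i).ι ≫ (X ↘ Spec (CommRingCat.of k))))
      exact CurveRR.isNoetherian_of_proper k _
    exact CohFinite.isCoh_of_iso (eQ i).symm
      (Intersect.isCoh_push' (U i).ι (CurveRR.isCoh_of_inv (PicLoc.isInvertible_pullback _ hA)))
  obtain ⟨N, -, hN⟩ := CurveRR.exists_bound k X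
  have h1 : Curv2.euler k X A = ∑ i, Curv2.euler k X (CohB1.tensorMod (Q i) A) := by
    rw [← CurveRR.euler_eq_of_iso eA,
      CurveRR.euler_eq_sum _ N (hN _ (CohFinite.isCoh_of_iso eA.symm (CurveRR.isCoh_of_inv hA)).1)]
    simp_rw [fun i => CurveRR.euler_eq_sum (k := k) (CohB1.tensorMod (Q i) A) N (hN _ (hc i).1)]
    rw [Finset.sum_comm]
    refine Finset.sum_congr rfl fun q _ => ?_
    haveI : ∀ i, Module.Finite k (Coh.HH X (CohB1.tensorMod (Q i) A) q) := fun i =>
      CohFinite.finite_proper k X _ (hc i) q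
    obtain ⟨ε⟩ := P1Split.nonempty_hh_coprod k Q A q
    simp only [CurveRR.h, ε.finrank_eq, Module.finrank_pi_fintype]
    push_cast
    rw [Finset.mul_sum]
  rw [h1]
  refine Finset.sum_congr rfl fun i _ => ?_
  letI : (U i : Scheme.{u}).Over (Spec (CommRingCat.of k)) := ⟨(U i).ι ≫ (X ↘ Spec (CommRingCat.of k))⟩
  rw [CurveRR.euler_eq_of_iso (eQ i), StabK3.euler_push k (U i).ι rfl
    (CurveRR.isCoh_of_inv (PicLoc.isInvertible_pullback _ hA)).1]

variable [Smooth (X ↘ Spec (CommRingCat.of k))] (hdim : ∀ Z ∈ irreducibleComponents (X : Type u), topologicalKrullDim Z = 2)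

theorem intNum_two (hd : topologicalKrullDim X ≤ ((2 : ℕ) : WithBot ℕ∞)) (A B : X.Modules) :
    FGA.intNum k X 2 ![A, B] (Coh.structureModule X) =
      Curv2.euler k X (Coh.structureModule X) - Curv2.euler k X B - Curv2.euler k X A +
        Curv2.euler k X (CohB1.tensorMod A B) := by
  have h : (FGA.intNum k X 2 ![A, B] (Coh.structureModule X) : ℚ) =
      (Curv2.euler k X (Coh.structureModule X) - Curv2.euler k X B - Curv2.euler k X A +
        Curv2.euler k X (CohB1.tensorMod A B) : ℤ) := by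
    rw [Nakai.intNum_eq_inter k hd]
    show ((Curv2.euler k X (Coh.structureModule X) : ℚ) -
          Curv2.euler k X (CohB1.tensorMod (Coh.structureModule X) B)) -
        ((Curv2.euler k X (CohB1.tensorMod (Coh.structureModule X) A) : ℚ) -
          Curv2.euler k X (CohB1.tensorMod (CohB1.tensorMod (Coh.structureModule X) A) B)) = _
    rw [CurveRR.euler_eq_of_iso (TMul.leftUnitIso A), CurveRR.euler_eq_of_iso (TMul.leftUnitIso B),
      CurveRR.euler_eq_of_iso (PicGrp.tensorModIso (TMul.leftUnitIso A) (Iso.refl B))]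
    push_cast
    ring
  exact_mod_cast h

include hdim in
/-- Riemann–Roch. -/
theorem riemann_roch_components {W : X.Modules}
    (hW : ExtPow.IsExtPow 2 (Omega.sheaf (X ↘ Spec (CommRingCat.of k))) W) {L : X.Modules} (hL : PicF.IsInvertible L) :
    2 * Curv2.euler k X L =
      FGA.intNum k X 2 ![L, L] (Coh.structureModule X) - FGA.intNum k X 2 ![L, W] (Coh.structureModule X) +
        2 * Curv2.euler k X (Coh.structureModule X) := by
  classical
  haveI := CurveRR.isNoetherian_of_proper k X
  have hdom : ∀ x : X, IsDomain (X.presheaf.stalk x) := fun x => by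
    haveI := SmLocalST.isRegularLocalRing_stalk_of_smooth_field (X ↘ Spec (CommRingCat.of k)) x
    exact Groth.Agent.S0558.result _
  obtain ⟨hopen, huniq⟩ := Groth.Agent.S14401.result X hdom
  have hfin : (irreducibleComponents (X : Type u)).Finite := NoetherianSpace.finite_irreducibleComponents
  let b := hfin.toFinset.card
  let e : Fin b ≃ hfin.toFinset := hfin.toFinset.equivFin.symm
  have hmem : ∀ i, (e i : Set X) ∈ irreducibleComponents (X : Type u) := fun i => hfin.mem_toFinset.1 (e i).2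
  let U : Fin b → X.Opens := fun i => ⟨(e i : Set X), hopen _ (hmem i)⟩
  haveI : ∀ i, IsClosedImmersion (U i).ι := fun i => IsClosedImmersion.of_isPreimmersion _
    (by rw [Scheme.Opens.range_ι]; exact isClosed_of_mem_irreducibleComponents _ (hmem i))
  have hcov : ∀ x : X, ∃ i, x ∈ U i := fun x => by
    obtain ⟨Z, ⟨hZ, hxZ⟩, -⟩ := huniq x
    refine ⟨e.symm ⟨Z, hfin.mem_toFinset.2 hZ⟩, ?_⟩
    show x ∈ (e (e.symm ⟨Z, hfin.mem_toFinset.2 hZ⟩) : Set X)
    rw [e.apply_symm_apply]
    exact hxZ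
  have hdis : ∀ i j, i ≠ j → Disjoint (U i) (U j) := fun i j hij => by
    rw [disjoint_iff_inf_le]
    intro x ⟨hi, hj⟩
    obtain ⟨Z, -, hu⟩ := huniq x
    exact absurd (e.injective (Subtype.ext ((hu _ ⟨hmem i, hi⟩).trans (hu _ ⟨hmem j, hj⟩).symm))) hij
  have hi2 : ∀ i, SmoothOfRelativeDimension 2 ((U i).ι ≫ (X ↘ Spec (CommRingCat.of k))) := fun i => by
    haveI : IrreducibleSpace (U i : Scheme.{u}) :=
      Subtype.irreducibleSpace (hmem i).1
    exact SectRank.smoothOfRelativeDimension_of_dim _ ((hdim _ (hmem i)).trans (by norm_cast))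
  haveI : SmoothOfRelativeDimension 2 (X ↘ Spec (CommRingCat.of k)) :=
    IsZariskiLocalAtSource.of_iSup_eq_top U
      (Opens.ext (Set.eq_univ_of_forall fun x => Opens.mem_iSup.2 (hcov x))) hi2
  have hd : topologicalKrullDim X ≤ ((2 : ℕ) : WithBot ℕ∞) := by
    rw [Groth.Agent.S10831.result]
    exact iSup₂_le fun Z hZ => (hdim Z hZ).le
  have hWd : DetDeg.HasDet 2 (Omega.sheaf (X ↘ Spec (CommRingCat.of k))) W :=
    DetDeg.hasDet_of_isExtPow (ExtFund.isFinLocFreeOfRank_omega _ 2) hW
  have hWi : PicF.IsInvertible W := ExtFund.isInvertible_of_hasDet hWd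
  rw [intNum_two k hd, intNum_two k hd]
  simp only [euler_split k U hdis hcov hL, euler_split k U hdis hcov hWi,
    euler_split k U hdis hcov (TMul.isInvertible_structureModule (X := X)),
    euler_split k U hdis hcov (TMul.isInvertible_tensorMod hL hL),
    euler_split k U hdis hcov (TMul.isInvertible_tensorMod hL hWi)]
  simp only [Finset.mul_sum, ← Finset.sum_sub_distrib, ← Finset.sum_add_distrib]
  refine Finset.sum_congr rfl fun i _ => ?_
  letI : (U i : Scheme.{u}).Over (Spec (CommRingCat.of k)) := ⟨(U i).ι ≫ (X ↘ Spec (CommRingCat.of k))⟩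
  haveI : IsProper ((U i : Scheme.{u}) ↘ Spec (CommRingCat.of k)) :=
    inferInstanceAs (IsProper ((U i).ι ≫ (X ↘ Spec (CommRingCat.of k))))
  haveI : Smooth ((U i : Scheme.{u}) ↘ Spec (CommRingCat.of k)) :=
    inferInstanceAs (Smooth ((U i).ι ≫ (X ↘ Spec (CommRingCat.of k))))
  haveI : SmoothOfRelativeDimension 2 ((U i : Scheme.{u}) ↘ Spec (CommRingCat.of k)) := by
    show SmoothOfRelativeDimension 2 ((U i).ι ≫ (X ↘ Spec (CommRingCat.of k)))
    simpa using (inferInstance : SmoothOfRelativeDimension (0 + 2) ((U i).ι ≫ (X ↘ Spec (CommRingCat.of k))))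
  haveI : ConnectedSpace (U i : Scheme.{u}) :=
    isConnected_iff_connectedSpace.1 (hmem i).1.isConnected
  have hdi : topologicalKrullDim (U i : Scheme.{u}) = 2 := hdim _ (hmem i)
  obtain ⟨eΩ⟩ := ExtFund.nonempty_omega_etale (U i).ι (X ↘ Spec (CommRingCat.of k))
    ((U i : Scheme.{u}) ↘ Spec (CommRingCat.of k)) rfl
  have hWU := ExtFund.isExtPow_of_hasDet (ExtFund.hasDet_congr eΩ (hWd.pullback (U i).ι))
  have key := riemann_roch k hdi hWU (PicLoc.isInvertible_pullback (U i).ι hL)
  rw [intNum_two k hdi.le, intNum_two k hdi.le] at key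
  obtain ⟨t₁⟩ := TMul.nonempty_pullTensorIso (U i).ι L L
  obtain ⟨t₂⟩ := TMul.nonempty_pullTensorIso (U i).ι L W
  rw [CurveRR.euler_eq_of_iso t₁, CurveRR.euler_eq_of_iso t₂,
    ← CurveRR.euler_eq_of_iso (PicLoc.pullbackStructureIso (U i).ι)] at key
  exact key

end Groth.Agent.SurfRR
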