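import Groth.Agent.ExtFund.SmoothPn
import Groth.Agent.ExtFund.SmoothDual
import Groth.Agent.RRSurf.Main
import Groth.Agent.SurfAmple.Main
import Groth.Agent.AmpleEmb.Closed
import Groth.Agent.Nakai.HodgeIndex

/-!
Riemann–Roch on smooth proper connected surfaces over an arbitrary field.
-/

set_option autoImplicit false
set_option backward.isDefEq.respectTransparency false
set_option backward.isDefEq.respectTransparency.types false
set_option linter.style.haveILetI false
set_option linter.unusedSectionVars false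

universe u

open CategoryTheory CategoryTheory.Limits AlgebraicGeometry TopologicalSpace

noncomputable section

namespace Groth.Agent.SurfRR

variable (k : Type u) [Field k] {X : Scheme.{u}} [X.Over (Spec (CommRingCat.of k))]
  [IsProper (X ↘ Spec (CommRingCat.of k))] [Smooth (X ↘ Spec (CommRingCat.of k))]
  (hdim : topologicalKrullDim X = 2)

include k hdim

theorem exists_emb [IsIntegral X] : ∃ (N : ℕ) (ι : X ⟶ CohB1.ProjSpace N k), IsClosedImmersion ι ∧
    ι ≫ CohB1.ProjSpace.toSpec N k = X ↘ Spec (CommRingCat.of k) := by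
  have hreg : ∀ x : X, IsRegularLocalRing (X.presheaf.stalk x) := fun x =>
    SmLocalST.isRegularLocalRing_stalk_of_smooth_field (X ↘ Spec (CommRingCat.of k)) x
  obtain ⟨U, hU, hxU, -⟩ := exists_isAffineOpen_mem_and_subset (X := X) (x := genericPoint X) (U := ⊤) trivial
  obtain ⟨I, hI, -, h⟩ := SurfAmple.exists_ample_divisor k hdim hreg ⟨U, hU⟩ ⟨_, hxU⟩
  obtain ⟨L, hL, ⟨e⟩⟩ := W7Hull.exists_tensor_inverse ((Groth.Agent.S8914.result I).2 hI)
  obtain ⟨n, d, r, -, hr, hci, -⟩ := AmpleEmb.exists_closedImmersion_projSpace (X ↘ Spec (CommRingCat.of k))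
    (h L hL ⟨TMul.commIso _ _ ≪≫ e⟩)
  exact ⟨n, r, hci, hr⟩

/-- Riemann–Roch. -/
theorem riemann_roch [ConnectedSpace X] {W : X.Modules}
    (hW : ExtPow.IsExtPow 2 (Omega.sheaf (X ↘ Spec (CommRingCat.of k))) W) {L : X.Modules} (hL : PicF.IsInvertible L) :
    2 * Curv2.euler k X L =
      FGA.intNum k X 2 ![L, L] (Coh.structureModule X) - FGA.intNum k X 2 ![L, W] (Coh.structureModule X) +
        2 * Curv2.euler k X (Coh.structureModule X) := by
  haveI := Nakai.isIntegral_of_smooth_connected k (X := X)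
  haveI : SmoothOfRelativeDimension 2 (X ↘ Spec (CommRingCat.of k)) :=
    SectRank.smoothOfRelativeDimension_of_dim _ (hdim.trans (by norm_cast))
  obtain ⟨N, ι, hci, hι⟩ := exists_emb k hdim
  obtain ⟨t, ht⟩ := ExtFund.exists_trace_smooth ι hι W hW
  refine RRSurf.riemann_roch k ι hι hdim (fun x => ?_) W (ExtFund.isCoh_top ι hι hW)
    (ExtFund.isInvertible_top ι hι hW) t ht L hL
  haveI := ExtFund.isRegularLocalRing_of_smooth (X ↘ Spec (CommRingCat.of k)) 2 x
  exact CMFlat.isCohenMacaulayLocalRing_of_isRegularLocalRing _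

end Groth.Agent.SurfRR
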